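/-
The centralizer of an involution of Held's configuration: four candidates.
-/
import Cfsg.Agent.Lib.Spor.HeldRecog.Cent.Iso

set_option autoImplicit false

namespace CfsgLib.Spor.HeldRecog

variable {G : Type*} [Group G] [Finite G]

/-- The centralizer is the table group of one of the four candidates, the involution being the code 64. -/
theorem centralizer_model (t : G) (ht : orderOf t = 2) (Q : Subgroup (Subgroup.centralizer ({t} : Set G))) [Q.Normal]
    (hQ : Cfsg.IsExtraspecial 2 Q) (hcard : Nat.card Q = 2 ^ 7)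
    (hplus : ∃ E : Subgroup Q, Cfsg.IsElementaryAbelian 2 E ∧ Nat.card E = 2 ^ 4)
    (h2c : Subgroup.centralizer (Q : Set (Subgroup.centralizer ({t} : Set G))) ≤ Q)
    (e : (Subgroup.centralizer ({t} : Set G)) ⧸ Q ≃* Matrix.SpecialLinearGroup (Fin 3) (ZMod 2)) :
    (∃ φ : Cen splitTab ≃* Subgroup.centralizer ({t} : Set G), (φ (Cen.ofCode splitTab 64) : G) = t) ∨
      (∃ φ : Cen splitTwistTab ≃* Subgroup.centralizer ({t} : Set G), (φ (Cen.ofCode splitTwistTab 64) : G) = t) ∨
      (∃ φ : Cen uniTab ≃* Subgroup.centralizer ({t} : Set G), (φ (Cen.ofCode uniTab 64) : G) = t) ∨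
      (∃ φ : Cen uniTwistTab ≃* Subgroup.centralizer ({t} : Set G), (φ (Cen.ofCode uniTwistTab 64) : G) = t) := by
  let t' : Subgroup.centralizer ({t} : Set G) := ⟨t, Subgroup.mem_centralizer_singleton_iff.2 rfl⟩
  have htc : ∀ c, Commute t' c := fun c => Subtype.ext (Subgroup.mem_centralizer_singleton_iff.1 c.2).symm
  have ht1 : t' ≠ 1 := fun h => by
    have h' : t = 1 := congrArg Subtype.val h
    rw [h', orderOf_one] at ht
    exact absurd ht (by decide)
  rcases exists_model t' htc ht1 Q hQ hcard hplus h2c e with ⟨φ, h⟩ | ⟨φ, h⟩ | ⟨φ, h⟩ | ⟨φ, h⟩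
  · exact Or.inl ⟨φ, congrArg Subtype.val h⟩
  · exact Or.inr (Or.inl ⟨φ, congrArg Subtype.val h⟩)
  · exact Or.inr (Or.inr (Or.inl ⟨φ, congrArg Subtype.val h⟩))
  · exact Or.inr (Or.inr (Or.inr ⟨φ, congrArg Subtype.val h⟩))

end CfsgLib.Spor.HeldRecog
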