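import Cfsg.Agent.Lib.Spor.HeldRecog.CentType
import Cfsg.Agent.Lib.Spor.HeldRecog.Amalgam.Exists
import Cfsg.Agent.Lib.Spor.HeldFusion.OtherCandidates
import Cfsg.Agent.Lib.Spor.HeldFusion.TwentyOne
import Cfsg.Agent.Lib.Spor.HeldRecog.Enum.Rels

/-!
# Groups of Held type contain the seven letters of the amalgam
-/

set_option autoImplicit false

namespace CfsgLib.Spor.HeldRecog

open CfsgLib.Spor.TC CfsgLib.Spor.HeldFusion

/-- A simple group with an involution centraliser as in He, the order of He and two classes of involutions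
contains seven involutions satisfying the relators of the amalgam. -/
theorem exists_letters_of_heldType {G : Type*} [Group G] [Finite G] [IsSimpleGroup G] (t : G) (ht : orderOf t = 2)
    (Q : Subgroup (Subgroup.centralizer ({t} : Set G))) [Q.Normal] (hQ : Cfsg.IsExtraspecial 2 Q)
    (hcard : Nat.card Q = 2 ^ 7) (hplus : ∃ E : Subgroup Q, Cfsg.IsElementaryAbelian 2 E ∧ Nat.card E = 2 ^ 4)
    (h2c : Subgroup.centralizer (Q : Set (Subgroup.centralizer ({t} : Set G))) ≤ Q)
    (e : (Subgroup.centralizer ({t} : Set G)) ⧸ Q ≃* Matrix.SpecialLinearGroup (Fin 3) (ZMod 2))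
    (hG : Nat.card G = 4030387200)
    (htwo : ∃ x y : G, orderOf x = 2 ∧ orderOf y = 2 ∧ ¬ IsConj x y ∧
      ∀ z : G, orderOf z = 2 → IsConj z x ∨ IsConj z y) : ∃ g : ℕ → G, Sat 7 Enum.relsP g ∧ g 0 ≠ 1 := by
  have hns : ¬ IsMulCommutative G := fun hc => by
    obtain ⟨x, y, -, -, hxy, -⟩ := htwo
    have hp : (Nat.card G).Prime := by
      letI : CommGroup G := { (inferInstance : Group G) with mul_comm := fun a b => hc.is_comm.comm a b }
      exact IsSimpleGroup.prime_card
    rw [hG] at hp
    exact absurd hp (by norm_num)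
  rcases centralizer_model t ht Q hQ hcard hplus h2c e with ⟨φ, h⟩ | ⟨φ, h⟩ | ⟨φ, h⟩ | ⟨φ, h⟩
  · have he : ((φ ⟨64, by norm_num⟩ : _) : G) = t := by
      rw [show (⟨64, by norm_num⟩ : Cen splitTab) = Cen.ofCode splitTab 64 from Cen.ext (by simp [Cen.ofCode])]
      exact h
    exact Amalgam.exists_letters φ he ht (patt_eq φ he ht hns hG htwo)
  · exact (false_of_splitTwist hns ht φ (by
      rw [show (⟨64, by norm_num⟩ : Cen splitTwistTab) = Cen.ofCode splitTwistTab 64 from
        Cen.ext (by simp [Cen.ofCode])]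
      exact h)).elim
  · exact (false_of_uni hns ht hG φ (by
      rw [show (⟨64, by norm_num⟩ : Cen uniTab) = Cen.ofCode uniTab 64 from Cen.ext (by simp [Cen.ofCode])]
      exact h)).elim
  · exact (false_of_uniTwist hns ht φ (by
      rw [show (⟨64, by norm_num⟩ : Cen uniTwistTab) = Cen.ofCode uniTwistTab 64 from
        Cen.ext (by simp [Cen.ofCode])]
      exact h)).elim

end CfsgLib.Spor.HeldRecog
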