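import Cfsg.Agent.Lib.Spor.TC.Word
import Mathlib.GroupTheory.Subgroup.Simple

/-!
# A nontrivial group with the generators of a presented simple group is isomorphic to it
-/

set_option autoImplicit false
set_option linter.style.haveILetI false

namespace CfsgLib.Spor.HeldRecog

open CfsgLib.Spor.TC

variable {k : ℕ} {rels : List PowRel} {G M : Type*} [Group G] [Group M]

theorem presHom_surjective_of_range {g : ℕ → G} (hg : Sat k rels g) (hgen : Subgroup.closure (Set.range g) = ⊤) :
    Function.Surjective (presHom hg) := by
  refine presHom_surjective hg (top_le_iff.1 ?_)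
  rw [← hgen, Subgroup.closure_le]
  rintro _ ⟨x, rfl⟩
  by_cases hx : x < k
  · exact Subgroup.subset_closure ⟨x, hx, rfl⟩
  · rw [hg.out x (by omega)]
    exact one_mem _

/-- The presented group is a simple group of at least its order, so every nontrivial quotient is that group. -/
theorem iso_of_generators [Nontrivial G] [IsSimpleGroup M] (hk : Nat.card (Pres k rels) ≠ 0)
    (hle : Nat.card (Pres k rels) ≤ Nat.card M) {m : ℕ → M} (hm : Sat k rels m)
    (hms : Function.Surjective (presHom hm)) {g : ℕ → G} (hg : Sat k rels g)
    (hgen : Subgroup.closure (Set.range g) = ⊤) : Nonempty (G ≃* M) := by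
  haveI : Finite (Pres k rels) := Nat.finite_of_card_ne_zero hk
  let e := MulEquiv.ofBijective (presHom hm) (hms.bijective_of_nat_card_le hle)
  let ψ : M →* G := (presHom hg).comp e.symm.toMonoidHom
  have hψs : Function.Surjective ψ := (presHom_surjective_of_range hg hgen).comp e.symm.surjective
  have hinj : Function.Injective ψ := by
    rcases IsSimpleGroup.eq_bot_or_eq_top_of_normal ψ.ker inferInstance with h | h
    · exact (MonoidHom.ker_eq_bot_iff ψ).1 h
    · obtain ⟨x, hx⟩ := exists_ne (1 : G)
      obtain ⟨y, rfl⟩ := hψs x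
      exact absurd (MonoidHom.mem_ker.1 (h ▸ Subgroup.mem_top y)) hx
  exact ⟨(MulEquiv.ofBijective ψ ⟨hinj, hψs⟩).symm⟩

end CfsgLib.Spor.HeldRecog
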