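import Cfsg.Agent.Lib.Spor.HeldRecog.Enum.PG.All
import Cfsg.Agent.Lib.Spor.HeldRecog.Enum.PN.All
import Cfsg.Agent.Lib.Spor.HeldRecog.Enum.PM.All
import Cfsg.Agent.Lib.Spor.HeldRecog.HeSide.BaseFix
import Cfsg.Agent.Lib.Spor.Held.Cox
import Cfsg.Agent.Lib.Spor.Held.Final
import Cfsg.Agent.Lib.Spor.HeldRecog.Quotient

/-!
# A group with the seven letters of the amalgam is the Held group

The presented group of the amalgam has at most the order of the Held group and maps onto it.
-/

set_option autoImplicit false

namespace CfsgLib.Spor.HeldRecog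

open CfsgLib.Spor.TC CfsgLib.Spor.Held

set_option maxRecDepth 100000 in
theorem rels_base : HeSide.relsBaseOK Enum.relsP = true := by decide +kernel

set_option maxRecDepth 100000 in
theorem relsN_sub : ∀ r ∈ Enum.relsN, (r.1.map fun x => [0, 1, 2, 3, 5, 6].getD x 7, r.2) ∈ Enum.relsP := by
  decide +kernel

set_option maxRecDepth 100000 in
theorem relsM_sub : ∀ r ∈ Enum.relsM, (r.1.map fun x => [0, 1, 2, 3, 4].getD x 6, r.2) ∈ Enum.relsN := by
  decide +kernel

/-- The order of the presented amalgam is at most that of the Held group. -/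
theorem card_relsP : Nat.card (Pres 7 Enum.relsP) ≠ 0 ∧ Nat.card (Pres 7 Enum.relsP) ≤ 4030387200 := by
  have h := Enum.PG.cosetCert.card_le (rels' := Enum.relsN) (l := 6) (by decide) relsN_sub
    (Enum.PN.cosetCert.card_le (rels' := Enum.relsM) (l := 5) (by decide) relsM_sub Enum.PM.cosetCert.card_le_bot)
  exact ⟨h.1, h.2.trans (by norm_num)⟩

/-- **A nontrivial group generated by seven such involutions is He.** -/
theorem isoHe_of_generators {G : Type*} [Group G] [Finite G] [Nontrivial G] (g : ℕ → G)
    (hg : Sat 7 Enum.relsP g) (hgen : Subgroup.closure (Set.range g) = ⊤) : Cfsg.Spor.IsoHe G := by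
  have hs : Sat 7 Enum.relsP HeSide.heGen := HeSide.sat_heGen_base rels_base
  haveI : IsSimpleGroup (Pres ActH.act.k relsG) := simple_held
  obtain ⟨f⟩ := iso_of_generators card_relsP.1 (by rw [card_held]; exact card_relsP.2) hs
    (presHom_surjective hs HeSide.closure_heGen) hg hgen
  obtain ⟨c, -⟩ := exists_equiv_gen
  exact ⟨f.trans c⟩

/-- **A group of the order of He with seven such involutions is He.** -/
theorem isoHe_of_letters {G : Type*} [Group G] [Finite G] (hG : Nat.card G = 4030387200) (g : ℕ → G)
    (hg : Sat 7 Enum.relsP g) (hne : g 0 ≠ 1) : Cfsg.Spor.IsoHe G := by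
  have hs : Sat 7 Enum.relsP HeSide.heGen := HeSide.sat_heGen_base rels_base
  have hsurj : Function.Surjective (presHom hs) := presHom_surjective hs HeSide.closure_heGen
  haveI : Finite (Pres 7 Enum.relsP) := Nat.finite_of_card_ne_zero card_relsP.1
  have hbij : Function.Bijective (presHom hs) :=
    hsurj.bijective_of_nat_card_le (by rw [card_held]; exact card_relsP.2)
  let e := MulEquiv.ofBijective (presHom hs) hbij
  let ψ : Pres ActH.act.k relsG →* G := (presHom hg).comp e.symm.toMonoidHom
  haveI : IsSimpleGroup (Pres ActH.act.k relsG) := simple_held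
  have hinj : Function.Injective ψ := by
    rcases IsSimpleGroup.eq_bot_or_eq_top_of_normal ψ.ker inferInstance with h | h
    · exact (MonoidHom.ker_eq_bot_iff ψ).1 h
    · refine absurd ?_ hne
      have h1 : e (presGen 7 Enum.relsP 0) ∈ ψ.ker := h ▸ Subgroup.mem_top _
      rw [MonoidHom.mem_ker] at h1
      simpa [ψ, presHom_gen] using h1
  have hψ : Function.Bijective ψ := (Nat.bijective_iff_injective_and_card ψ).2 ⟨hinj, by rw [card_held, hG]⟩
  obtain ⟨c, -⟩ := exists_equiv_gen
  exact ⟨(MulEquiv.ofBijective ψ hψ).symm.trans c⟩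

end CfsgLib.Spor.HeldRecog
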